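import Groth.Agent.SingRRLib.Sections
import Groth.Agent.SingRRLib.SmoothPts
import Groth.Agent.GenusOneLib.MulSurj
import Groth.Agent.CurveP1Lib.PointIdeal
import Groth.Agent.S12460
import Groth.Agent.S2618

/-!
# Points of least degree on curves with `H¹(O) = 0`
-/

set_option autoImplicit false
set_option backward.isDefEq.respectTransparency false
set_option backward.isDefEq.respectTransparency.types false
set_option linter.style.haveILetI false
set_option maxHeartbeats 1000000

universe u

open CategoryTheory CategoryTheory.Limits AlgebraicGeometry TopologicalSpace Opposite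
open Groth.Agent.PullbackMod Groth.Agent.DCohLib Groth.Agent.CurveLib
open scoped TensorProduct

noncomputable section

namespace Groth.Agent.GenusZeroLib

section general

variable {X : Scheme.{u}}

theorem secHom_sec_eq {L : X.Modules} (s : Coh.structureModule X ⟶ L) :
    DCohLib.secHom L (AmpleLib.sec s) = s :=
  AmpleLib.secHom_sec s

theorem stalkLin_oneG {L : X.Modules} (s : Coh.structureModule X ⟶ L) (x : X) :
    stalkLin s x (ParaFLib.oneG x) = L.presheaf.germ ⊤ x trivial (AmpleLib.sec s) := by
  conv_lhs => rw [← secHom_sec_eq s]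
  exact CurveLib.stalkLin_secHom _ x

theorem bijective_stalkLin_of_mem {L : X.Modules} (hL : PicF.IsInvertible L) (s : Coh.structureModule X ⟶ L)
    {x : X} (hx : x ∈ CohB1.genLocus L s) : Function.Bijective (stalkLin s x) := by
  rw [AmpleLib.mem_genLocus_iff hL, ← stalkLin_oneG s x] at hx
  have h : (fun r : X.presheaf.stalk x => r • stalkLin s x (ParaFLib.oneG x)) =
      stalkLin s x ∘ fun r : X.presheaf.stalk x => r • ParaFLib.oneG x :=
    funext fun r => (map_smul _ r _).symm
  rw [h] at hx
  exact (Function.Bijective.of_comp_iff _ (ParaFLib.bijective_oneG x)).1 hx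

theorem isIso_of_genLocus {L : X.Modules} (hL : PicF.IsInvertible L) (s : Coh.structureModule X ⟶ L)
    (h : ∀ x, x ∈ CohB1.genLocus L s) : IsIso s :=
  (PullbackMod.isIso_iff_stalk s).2 fun x => bijective_stalkLin_of_mem hL s (h x)

end general

variable {k : Type u} [Field k] {X : Scheme.{u}} [X.Over (Spec (CommRingCat.of k))]
  [IsProper (X ↘ Spec (CommRingCat.of k))] [IsIntegral X]

include k in
theorem h0_structure_pos : 0 < Module.finrank k (Coh.HH X (Coh.structureModule X) 0) := by
  haveI := EulerIneqLib.isNoetherian_proper (X := X) k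
  haveI := EulerIneqLib.finite_HH (k := k) (DevLib.isCoh_structureModule X) 0
  have hne : (secOf (Coh.structureModule X)).symm (show Γ(Coh.structureModule X, ⊤) from (1 : Γ(X, ⊤))) ≠ 0 :=
    fun h => one_ne_zero (α := Γ(X, ⊤)) (((secOf (Coh.structureModule X)).apply_symm_apply _).symm.trans
      ((congrArg (secOf _) h).trans (map_zero _)))
  haveI : Nontrivial (Coh.HH X (Coh.structureModule X) 0) := ⟨⟨_, 0, hne⟩⟩
  exact Module.finrank_pos

variable (hdim : topologicalKrullDim X = 1) [Subsingleton (Coh.HH X (Coh.structureModule X) 1)]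

include k hdim in
/-- Modules of nonnegative degree have sections. -/
theorem exists_section {L : X.Modules} (hdeg : 0 ≤ Curv2.deg k X L 1) :
    ∃ s : Coh.structureModule X ⟶ L, s ≠ 0 := by
  refine CurveLib.exists_hom_of_euler_pos (k := k) hdim.le ?_
  have h := euler_eq_sub (k := k) (M := Coh.structureModule X) hdim.le
  rw [Module.finrank_zero_of_subsingleton (R := k) (M := Coh.HH X (Coh.structureModule X) 1)] at h
  have := h0_structure_pos (k := k) (X := X)
  unfold Curv2.deg at hdeg
  simp at hdeg h
  omega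

include k hdim in
/-- A module with a nonzero section is globally generated. -/
theorem isGloballyGenerated_of_section {L : X.Modules} (hL : PicF.IsInvertible L)
    {s : Coh.structureModule X ⟶ L} (hs : s ≠ 0) : Curv2.IsGloballyGenerated L := by
  haveI := EulerIneqLib.isNoetherian_proper (X := X) k
  obtain ⟨-, hC, hd, -, hm⟩ := deg_eq_add_coker (k := k) hdim.le ParaFLib.isInvertible_structureModule hL hs
  haveI := hm
  refine AmpleEmb.isGloballyGenerated_of_genLocus hL (fun t : (Coh.structureModule X ⟶ L) => t) fun x => ?_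
  by_cases hx : x ∈ CohB1.genLocus L s
  · exact ⟨s, hx⟩
  obtain ⟨e, he⟩ := ParaFLib.exists_stalk_gen hL x
  obtain ⟨w, hw, -⟩ := exists_global_germ' hC hd (cokernel s) subset_rfl x (stalkLin (cokernel.π s) x e)
  obtain ⟨c, hc⟩ : ∃ c, hMap (k := k) (cokernel.π s) 0 c = (secOf (cokernel s)).symm w := by
    haveI : Subsingleton (Coh.HH X (DevLib.cokerSeq s).X₁ (0 + 1)) :=
      ‹Subsingleton (Coh.HH X (Coh.structureModule X) 1)›
    exact (range_hMap_g (k := k) (DevLib.cokerSeq_shortExact s) 0).ge
      (LinearMap.mem_ker.2 (Subsingleton.elim _ _) : (secOf (cokernel s)).symm w ∈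
        LinearMap.ker (hδ (k := k) (DevLib.cokerSeq_shortExact s) 0))
  refine ⟨secHom L (secOf L c), ?_⟩
  rw [AmpleLib.mem_genLocus_iff hL, AmpleLib.sec_secHom]
  have h1 : stalkLin (cokernel.π s) x (L.presheaf.germ ⊤ x trivial (secOf L c)) = stalkLin (cokernel.π s) x e := by
    rw [stalkLin_germ, ← secOf_hMap (k := k), hc, AddEquiv.apply_symm_apply, hw]
  obtain ⟨z, hz⟩ := (DevLib.coker_exact s x (L.presheaf.germ ⊤ x trivial (secOf L c) - e)).1
    (by rw [map_sub, h1, sub_self])
  obtain ⟨r, hr⟩ := (ParaFLib.bijective_oneG x).2 z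
  dsimp only at hr
  rw [← hr, map_smul, stalkLin_oneG] at hz
  obtain ⟨a, ha⟩ := he.2 (L.presheaf.germ ⊤ x trivial (AmpleLib.sec s))
  dsimp only at ha
  rw [← ha, smul_smul] at hz
  have ham : a ∈ IsLocalRing.maximalIdeal (X.presheaf.stalk x) := fun hu => hx (by
    rw [AmpleLib.mem_genLocus_iff hL, ← ha]
    exact (AmpleLib.bijective_smul_iff he a).2 hu)
  have hgerm : L.presheaf.germ ⊤ x trivial (secOf L c) = (1 + r * a) • e := by
    rw [add_smul, one_smul, hz, add_sub_cancel]
  rw [hgerm]
  refine (AmpleLib.bijective_smul_iff he _).2 ?_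
  by_contra hu
  have h2 : (1 + r * a) - r * a ∈ IsLocalRing.maximalIdeal (X.presheaf.stalk x) :=
    sub_mem hu (Ideal.mul_mem_left _ r ham)
  rw [add_sub_cancel_right] at h2
  exact h2 isUnit_one

omit [Subsingleton (Coh.HH X (Coh.structureModule X) 1)] in
include hdim in
theorem genericPoint_not_closed : ¬ IsClosed ({genericPoint X} : Set X) := fun h => by
  have huniv : (Set.univ : Set X) ⊆ {genericPoint X} := by
    rw [← (genericPoint_spec X).def]
    exact h.closure_eq.le
  haveI : Subsingleton X := ⟨fun a b => (huniv (Set.mem_univ a)).trans (huniv (Set.mem_univ b)).symm⟩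
  have h2 : topologicalKrullDim X ≤ 0 := topologicalKrullDim_zero_of_discreteTopology X
  rw [hdim] at h2
  exact absurd h2 (by norm_num)

omit [Subsingleton (Coh.HH X (Coh.structureModule X) 1)] in
include k hdim in
/-- Regular closed points have invertible ideals. -/
theorem isInvertible_idealMod_point {x : X} (hxc : IsClosed ({x} : Set X))
    (hr : IsRegularLocalRing (X.presheaf.stalk x)) :
    PicF.IsInvertible (ClSub.idealMod (Scheme.IdealSheafData.vanishingIdeal (⟨{x}, hxc⟩ : Closeds X))) := by
  haveI := EulerIneqLib.isNoetherian_proper (X := X) k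
  haveI := hr
  have hd : ringKrullDim (X.presheaf.stalk x) ≤ 1 := by
    rw [ringKrullDim_stalk_eq_coheight]
    exact (Order.coheight_le_krullDim x).trans (by rw [← ASp.topologicalKrullDim_eq_krullDim]; exact hdim.le)
  haveI := VBLib.isPrincipalIdealRing_of_regular (X.presheaf.stalk x) hd
  obtain ⟨⟨g, hg⟩⟩ : Nonempty {g : X.presheaf.stalk x //
      IsLocalRing.maximalIdeal (X.presheaf.stalk x) = Ideal.span {g}} :=
    ⟨⟨_, (Ideal.span_singleton_generator _).symm⟩⟩
  have hg0 : g ≠ 0 := by
    rintro rfl
    rw [Ideal.span_singleton_zero] at hg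
    haveI : IsField (X.presheaf.stalk x) := (IsLocalRing.isField_iff_maximalIdeal_eq).2 hg
    have h1 : ringKrullDim (X.presheaf.stalk x) = 0 := ringKrullDim_eq_zero_of_isField ‹_›
    rw [ringKrullDim_stalk_eq_coheight] at h1
    have hmax : IsMax x := Order.coheight_eq_zero.1 (by exact_mod_cast h1)
    have hgen : genericPoint X ≤ x := hmax (Scheme.le_iff_specializes.2 (genericPoint_specializes x))
    have he : genericPoint X = x :=
      ((genericPoint_specializes x).antisymm (Scheme.le_iff_specializes.1 hgen)).eq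
    exact genericPoint_not_closed hdim (he ▸ hxc)
  refine (S8914.result _).2 (S1570.result X _ fun y hy U hyU => ?_)
  rw [← SetLike.mem_coe, Scheme.IdealSheafData.coe_support_vanishingIdeal] at hy
  change y ∈ ({x} : Set X) at hy
  obtain rfl : y = x := hy
  exact ⟨g, mem_nonZeroDivisors_of_ne_zero hg0, (CurveP1Lib.map_vanishingIdeal_singleton hxc U hyU).trans hg⟩

omit [Subsingleton (Coh.HH X (Coh.structureModule X) 1)] [IsIntegral X] in
include k in
theorem dim_support_point {x : X} (hxc : IsClosed ({x} : Set X)) :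
    topologicalKrullDim ((Scheme.IdealSheafData.vanishingIdeal (⟨{x}, hxc⟩ : Closeds X)).support : Set X) ≤ 0 := by
  rw [Scheme.IdealSheafData.coe_support_vanishingIdeal]
  exact topologicalKrullDim_zero_of_discreteTopology ({x} : Set X)

omit [Subsingleton (Coh.HH X (Coh.structureModule X) 1)] in
/-- The degree of the ideal of a closed point. -/
theorem deg_idealMod_point {x : X} (hxc : IsClosed ({x} : Set X)) :
    Curv2.deg k X (ClSub.idealMod (Scheme.IdealSheafData.vanishingIdeal (⟨{x}, hxc⟩ : Closeds X))) 1 =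
      -(Module.finrank k (Coh.HH X (ClSub.quotMod (Scheme.IdealSheafData.vanishingIdeal (⟨{x}, hxc⟩ : Closeds X))) 0) : ℤ) := by
  haveI := EulerIneqLib.isNoetherian_proper (X := X) k
  let Z := Scheme.IdealSheafData.vanishingIdeal (⟨{x}, hxc⟩ : Closeds X)
  haveI := SingRRLib.mono_idealModι Z
  have hI := RefOne.isCoh_idealMod Z
  have hO := DevLib.isCoh_structureModule X
  have hQ := (QCohLib.isCoh_kernel_cokernel (ClSub.idealModι Z) hI hO).2
  have h1 := euler_shortExact (K := k) (DevLib.cokerSeq_shortExact (ClSub.idealModι Z)) hI hO hQ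
  change Curv2.euler k X (Coh.structureModule X) =
    Curv2.euler k X (ClSub.idealMod Z) + Curv2.euler k X (cokernel (ClSub.idealModι Z)) at h1
  rw [euler_iso (K := k) (SingRRLib.cokerIdealIso Z),
    euler_of_dim_le_zero (k := k) Z.support.isClosed (IntLib.support_quotMod_subset Z) (dim_support_point (k := k) hxc)] at h1
  show Curv2.euler k X (ClSub.idealMod Z) - _ = _
  rw [h1]
  simp [Z]

omit [Subsingleton (Coh.HH X (Coh.structureModule X) 1)] in
include hdim in
/-- A section vanishing at a regular closed point has degree at least that of the point. -/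
theorem finrank_point_le {L : X.Modules} (hL : PicF.IsInvertible L) {s : Coh.structureModule X ⟶ L} (hs : s ≠ 0)
    {x : X} (hxc : IsClosed ({x} : Set X)) (hr : IsRegularLocalRing (X.presheaf.stalk x))
    (hn : x ∉ CohB1.genLocus L s) :
    (Module.finrank k (Coh.HH X (ClSub.quotMod (Scheme.IdealSheafData.vanishingIdeal (⟨{x}, hxc⟩ : Closeds X))) 0) : ℤ) ≤
      Curv2.deg k X L 1 := by
  haveI := EulerIneqLib.isNoetherian_proper (X := X) k
  let J := Scheme.IdealSheafData.vanishingIdeal (⟨{x}, hxc⟩ : Closeds X)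
  haveI := SingRRLib.mono_twistι J hL
  set σ := AmpleLib.sec s with hσ
  have hstalk : ∀ y, ∃ z, stalkLin (SingRRLib.twistι J L) y z = L.presheaf.germ ⊤ y trivial σ := by
    intro y
    obtain ⟨g, hg, hg'⟩ := SingRRLib.exists_gen_twist (k := k) J hL y
    obtain ⟨r, hr'⟩ := hg.2 (L.presheaf.germ ⊤ y trivial σ)
    rw [← hr']
    refine hg' r ?_
    obtain ⟨h1, h2⟩ := CurveFF.stalkIdeal_point hxc
    by_cases hy : y = x
    · subst hy
      rw [h1]
      intro hu
      refine hn ?_
      rw [AmpleLib.mem_genLocus_iff hL, ← hσ, ← hr']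
      exact (AmpleLib.bijective_smul_iff hg r).2 hu
    · rw [h2 y hy]
      trivial
  have hS := DevLib.cokerSeq_shortExact (SingRRLib.twistι J L)
  have hzero : (cokernel.π (SingRRLib.twistι J L)).app ⊤ σ = 0 := by
    refine TopCat.Presheaf.section_ext
      (⟨(cokernel (SingRRLib.twistι J L)).presheaf, (cokernel (SingRRLib.twistι J L)).isSheaf⟩ : TopCat.Sheaf Ab X) ⊤ _ _ fun y hy => ?_
    show (cokernel (SingRRLib.twistι J L)).presheaf.germ ⊤ y trivial _ = (cokernel (SingRRLib.twistι J L)).presheaf.germ ⊤ y trivial 0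
    rw [map_zero, ← stalkLin_germ]
    exact (DevLib.coker_exact (SingRRLib.twistι J L) y _).2 (hstalk y)
  have hc : hMap (k := k) (DevLib.cokerSeq (SingRRLib.twistι J L)).g 0 ((secOf L).symm σ) = 0 := by
    refine (secOf (cokernel (SingRRLib.twistι J L))).injective ?_
    rw [map_zero]
    refine (secOf_hMap (k := k) _ _).trans ?_
    exact (congrArg ((cokernel.π (SingRRLib.twistι J L)).app ⊤) ((secOf L).apply_symm_apply σ)).trans hzero
  obtain ⟨b, hb⟩ := (range_hMap_f (k := k) hS 0).ge (LinearMap.mem_ker.2 hc)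
  have hb' : (SingRRLib.twistι J L).app ⊤ (secOf _ b) = σ :=
    (secOf_hMap (k := k) (SingRRLib.twistι J L) b).symm.trans
      ((congrArg (secOf L) hb).trans ((secOf L).apply_symm_apply σ))
  have hJi := isInvertible_idealMod_point (k := k) hdim hxc hr
  have hT : PicF.IsInvertible (tmod (ClSub.idealMod J) L) := AmpleLib.isInvertible_tensor hJi hL
  have hs' : secHom _ (secOf (tmod (ClSub.idealMod J) L) b) ≠ 0 := by
    refine secHom_secOf_ne_zero _ fun hb0 => hs ?_
    rw [← secHom_sec_eq s, ← hσ, ← hb', hb0, map_zero, map_zero]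
    refine DCohLib.hom_unit_ext ?_
    rw [DCohLib.secHom_app_one, map_zero]
    rfl
  have h := (deg_le_of_ne_zero (k := k) hdim.le ParaFLib.isInvertible_structureModule hT hs').1
  rw [CurveLib.deg_structureModule] at h
  replace h := h.trans_eq (CurveLib.deg_tensor_add (k := k) hdim.le hJi hL)
  rw [deg_idealMod_point] at h
  omega

omit [Subsingleton (Coh.HH X (Coh.structureModule X) 1)] [IsIntegral X] [IsProper (X ↘ Spec (CommRingCat.of k))] in
include k in
theorem isOpen_regular [LocallyOfFiniteType (X ↘ Spec (CommRingCat.of k))] :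
    IsOpen {y : X | IsRegularLocalRing (X.presheaf.stalk y)} := by
  refine (S12460.result (Spec (CommRingCat.of k))).2.2 (fun x => ⟨⟨⊤, isAffineOpen_top _⟩, trivial, ?_⟩) X
    (X ↘ Spec (CommRingCat.of k)) inferInstance
  intro S _ _ hS
  haveI := hS
  letI : Field Γ(Spec (CommRingCat.of k), ⊤) :=
    ((Scheme.ΓSpecIso (CommRingCat.of k)).commRingCatIsoToRingEquiv.toMulEquiv.isField (Field.toIsField k)).toField
  exact S2618.result Γ(Spec (CommRingCat.of k), ⊤) S

omit [Subsingleton (Coh.HH X (Coh.structureModule X) 1)] in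
include k hdim in
theorem finite_singular : {y : X | IsRegularLocalRing (X.presheaf.stalk y)}ᶜ.Finite := by
  haveI := EulerIneqLib.isNoetherian_proper (X := X) k
  have hC := (isOpen_regular (k := k) (X := X)).isClosed_compl
  refine finite_of_dim_le_zero hC (dim_le_zero_of_notMem hdim.le hC (genericPoint_spec X) ?_)
  refine not_not.2 ?_
  show IsRegularLocalRing X.functionField
  infer_instance

omit [Subsingleton (Coh.HH X (Coh.structureModule X) 1)] in
include k hdim in
theorem exists_regular_closed : ∃ Q : X, IsClosed ({Q} : Set X) ∧ IsRegularLocalRing (X.presheaf.stalk Q) := by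
  haveI : JacobsonSpace X := LocallyOfFiniteType.jacobsonSpace (X ↘ Spec (CommRingCat.of k))
  have hne : {y : X | IsRegularLocalRing (X.presheaf.stalk y)}.Nonempty :=
    ⟨genericPoint X, show IsRegularLocalRing X.functionField by infer_instance⟩
  obtain ⟨Q, hQ, hQc⟩ := nonempty_inter_closedPoints hne (isOpen_regular (k := k) (X := X)).isLocallyClosed
  exact ⟨Q, mem_closedPoints_iff.1 hQc, hQ⟩

include hdim in
/-- A module of positive degree yields a regular closed point of no larger degree away from a finite set. -/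
theorem exists_point [Infinite k] {L : X.Modules} (hL : PicF.IsInvertible L) (hdeg : 0 < Curv2.deg k X L 1)
    {T : Set X} (hT : T.Finite) :
    ∃ (Q : X) (hQc : IsClosed ({Q} : Set X)), Q ∉ T ∧ IsRegularLocalRing (X.presheaf.stalk Q) ∧
      (Module.finrank k (Coh.HH X (ClSub.quotMod (Scheme.IdealSheafData.vanishingIdeal (⟨{Q}, hQc⟩ : Closeds X))) 0) : ℤ) ≤
        Curv2.deg k X L 1 := by
  haveI := EulerIneqLib.isNoetherian_proper (X := X) k
  obtain ⟨s, hs⟩ := exists_section (k := k) hdim hdeg.le
  obtain ⟨t, ht⟩ := GenusOneLib.exists_gen_finite (k := k) hL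
    (isGloballyGenerated_of_section (k := k) hdim hL hs)
    (((finite_singular (k := k) hdim).union hT).union (Set.finite_singleton (genericPoint X)))
  have ht0 : DCohLib.secHom L t ≠ 0 := by
    intro h0
    have hg := ht (genericPoint X) (Or.inr rfl)
    rw [h0, AmpleLib.mem_genLocus_iff hL, show AmpleLib.sec (0 : Coh.structureModule X ⟶ L) = 0 from rfl] at hg
    simp only [map_zero, smul_zero] at hg
    exact one_ne_zero (hg.1 (a₁ := (1 : X.presheaf.stalk (genericPoint X))) (a₂ := 0) rfl)
  obtain ⟨Q, hQ⟩ : ∃ Q, Q ∉ CohB1.genLocus L (DCohLib.secHom L t) := by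
    by_contra hall
    push Not at hall
    haveI := isIso_of_genLocus hL _ hall
    have := CurveLib.deg_iso (k := k) (asIso (DCohLib.secHom L t)) 1
    rw [CurveLib.deg_structureModule] at this
    omega
  have hC : IsClosed ((CohB1.genLocus L (DCohLib.secHom L t) : Set X))ᶜ :=
    (CohB1.genLocus L (DCohLib.secHom L t)).isOpen.isClosed_compl
  have hQc : IsClosed ({Q} : Set X) := by
    rw [← closure_singleton_eq hC (dim_le_zero_of_notMem hdim.le hC (genericPoint_spec X)
      (not_not.2 (ht (genericPoint X) (Or.inr rfl)))) hQ]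
    exact isClosed_closure
  have hQr : IsRegularLocalRing (X.presheaf.stalk Q) := by
    by_contra h
    exact hQ (ht Q (Or.inl (Or.inl h)))
  exact ⟨Q, hQc, fun h => hQ (ht Q (Or.inl (Or.inr h))), hQr, finrank_point_le hdim hL ht0 hQc hQr hQ⟩

end Groth.Agent.GenusZeroLib
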